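import Cfsg.Agent.Lib.H28.HeM.CertC.Run
import Cfsg.Agent.Lib.H28.HeM.RelStruct

set_option autoImplicit false
set_option maxRecDepth 100000

/-!
# Third certificate for the Held group: the cube of `(cdfg)⁴` (helper28)

In a group with involutions `a, c, d, e, f, g` satisfying the Coxeter relations of the Held
presentation among them, `e = (fg)²` and `a = (cd)⁵`, in which `ζ = (cdfg)⁴` is central, the cube
`ζ³` lies in the cyclic group generated by `fg`.  Certified part of a coset enumeration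
over `⟨fg⟩`.
-/

namespace Cfsg.Agent.Lib.H28.HeM.CertC

open Cfsg.Agent.Lib.H17.CosetCert Cfsg.Agent.Lib.H28.CosetCertD Cfsg.Agent.Lib.H28.HeM.RelStruct
  Cfsg.Agent.Lib.H28.HeM

/-- inverse letter: letters `a c d e f g`, all involutions -/
def inv (x : ℕ) : ℕ := x

/-- the base relators -/
def baseL : List (List ℕ) := [
  [0, 1, 0, 1],
  [0, 2, 0, 2],
  [0, 3, 0, 3],
  [0, 4, 0, 4],
  [0, 5, 0, 5],
  [1, 2, 1, 2, 1, 2, 1, 2, 1, 2, 1, 2, 1, 2, 1, 2, 1, 2, 1, 2],
  [1, 3, 1, 3],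
  [1, 4, 1, 4],
  [1, 5, 1, 5],
  [2, 3, 2, 3, 2, 3],
  [2, 4, 2, 4, 2, 4],
  [2, 5, 2, 5, 2, 5],
  [3, 4, 3, 4],
  [3, 5, 3, 5],
  [4, 5, 4, 5, 4, 5, 4, 5],
  [3, 5, 4, 5, 4],
  [0, 2, 1, 2, 1, 2, 1, 2, 1, 2, 1]]

/-- the central word -/
def bitL : List (List ℕ) := [[1, 2, 4, 5, 1, 2, 4, 5, 1, 2, 4, 5, 1, 2, 4, 5]]

theorem relL_sub : ∀ w ∈ relL, w ∈ fullL inv [0, 1, 2, 3, 4, 5] (List.range 6) baseL bitL [] := by
  decide +kernel

variable {G : Type*} [Group G]

theorem main (a c d e f g : G)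
    (ha : a * a = 1) (hc : c * c = 1) (hd : d * d = 1) (he : e * e = 1) (hf : f * f = 1)
    (hg : g * g = 1)
    (hac : (a * c) ^ 2 = 1) (had : (a * d) ^ 2 = 1) (hae : (a * e) ^ 2 = 1) (haf : (a * f) ^ 2 = 1)
    (hag : (a * g) ^ 2 = 1) (hcd : (c * d) ^ 10 = 1) (hce : (c * e) ^ 2 = 1) (hcf : (c * f) ^ 2 = 1)
    (hcg : (c * g) ^ 2 = 1) (hde : (d * e) ^ 3 = 1) (hdf : (d * f) ^ 3 = 1) (hdg : (d * g) ^ 3 = 1)
    (hef : (e * f) ^ 2 = 1) (heg : (e * g) ^ 2 = 1) (hfg : (f * g) ^ 4 = 1)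
    (h1 : e = (f * g) ^ 2) (h2 : a = (c * d) ^ 5)
    (hz : (c * d * f * g) ^ 4 ∈ Subgroup.center G) :
    ((c * d * f * g) ^ 4) ^ 3 ∈ Subgroup.zpowers (f * g) := by
  set γ : ℕ → G := fun x => [a, c, d, e, f, g].getD x 1 with hγ
  have hai : a⁻¹ = a := inv_eq_of_mul_eq_one_left ha
  have hci : c⁻¹ = c := inv_eq_of_mul_eq_one_left hc
  have hdi : d⁻¹ = d := inv_eq_of_mul_eq_one_left hd
  have hei : e⁻¹ = e := inv_eq_of_mul_eq_one_left he
  have hfi : f⁻¹ = f := inv_eq_of_mul_eq_one_left hf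
  have hgi : g⁻¹ = g := inv_eq_of_mul_eq_one_left hg
  have hinv : ∀ x, γ (inv x) = (γ x)⁻¹ := by
    intro x
    by_cases hx : x < 6
    · interval_cases x <;> simp [hγ, inv, hai, hci, hdi, hei, hfi, hgi]
    · have h6 : 6 ≤ x := by omega
      simp [hγ, inv, h6]
  have hbits : ∀ β ∈ bitL, (β.map γ).prod ∈ Subgroup.center G := by
    intro β hβ
    simp only [bitL, List.mem_cons, List.not_mem_nil, or_false] at hβ
    subst hβ
    have e' : ([1, 2, 4, 5, 1, 2, 4, 5, 1, 2, 4, 5, 1, 2, 4, 5].map γ).prod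
        = (c * d * f * g) ^ 4 := by
      simp only [hγ, List.map_cons, List.map_nil, List.prod_cons, List.prod_nil,
        List.getD_cons_zero, List.getD_cons_succ, pow_succ, pow_zero, one_mul, mul_assoc, mul_one]
    rw [e']
    exact hz
  have hbase : ∀ w ∈ baseL, (w.map γ).prod = 1 := by
    have k16 : e * ((f * g) ^ 2)⁻¹ = 1 := by rw [← h1]; exact mul_inv_cancel e
    have k17 : a * ((c * d) ^ 5)⁻¹ = 1 := by rw [← h2]; exact mul_inv_cancel a
    simp only [pow_succ, pow_zero, one_mul, mul_assoc] at hac had hae haf hag hcd hce hcf hcg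
    simp only [pow_succ, pow_zero, one_mul, mul_assoc] at hde hdf hdg hef heg hfg
    simp only [pow_succ, pow_zero, one_mul, mul_assoc, mul_inv_rev, hci, hdi, hfi, hgi] at k16 k17
    intro w hw
    simp only [baseL, List.mem_cons, List.not_mem_nil, or_false] at hw
    rcases hw with rfl | rfl | rfl | rfl | rfl | rfl | rfl | rfl | rfl | rfl | rfl | rfl | rfl |
        rfl | rfl | rfl | rfl <;>
      simp only [hγ, List.map_cons, List.map_nil, List.prod_cons, List.prod_nil, List.getD_cons_zero,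
        List.getD_cons_succ, mul_one]
    · exact hac
    · exact had
    · exact hae
    · exact haf
    · exact hag
    · exact hcd
    · exact hce
    · exact hcf
    · exact hcg
    · exact hde
    · exact hdf
    · exact hdg
    · exact hef
    · exact heg
    · exact hfg
    · exact k16
    · exact k17
  have hfull := rel_of_struct γ inv hinv [0, 1, 2, 3, 4, 5] (List.range 6) baseL bitL [] hbase
    hbits (fun β hβ => absurd hβ (by simp))
  have hrel : ∀ w ∈ relL, (w.map γ).prod = 1 := fun w hw => hfull w (relL_sub w hw)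
  set E : Subgroup G := Subgroup.zpowers (f * g) with hE
  have hsub : ∀ w ∈ subL, (w.map γ).prod ∈ E := by
    intro w hw
    simp only [subL, List.mem_cons, List.not_mem_nil, or_false] at hw
    subst hw
    simp only [hγ, List.map_cons, List.map_nil, List.prod_cons, List.prod_nil, List.getD_cons_zero,
      List.getD_cons_succ, mul_one]
    exact Subgroup.mem_zpowers _
  have hOK := CertGlue.wordsOK words relL subL words_spec γ hrel E hsub
  have m0 := CertGlue.prod_mem_of_fix γ E pw0 (fix0 _ _ hOK)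
  have e0 : (pw0.map γ).prod = ((c * d * f * g) ^ 4) ^ 3 := by
    simp only [pw0, hγ, List.map_cons, List.map_nil, List.prod_cons, List.prod_nil,
      List.getD_cons_zero, List.getD_cons_succ, pow_succ, pow_zero, one_mul, mul_assoc, mul_one]
  rw [e0] at m0
  exact m0

end Cfsg.Agent.Lib.H28.HeM.CertC
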