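import Cfsg.Agent.Lib.H28.HeM.CertC.StepsA
import Cfsg.Agent.Lib.H28.HeM.CertC.StepsB

set_option autoImplicit false
set_option maxRecDepth 100000

/-! # Running the certificate: the path words fix the base point (generated) -/

namespace Cfsg.Agent.Lib.H28.HeM.CertC

open Cfsg.Agent.Lib.H17.CosetCert Cfsg.Agent.Lib.H28.CosetCertD

/-- path word 0 -/
def pw0 : List ℕ := [1, 2, 4, 5, 1, 2, 4, 5, 1, 2, 4, 5, 1, 2, 4, 5, 1, 2, 4, 5, 1, 2, 4, 5, 1, 2, 4, 5, 1, 2, 4, 5, 1, 2, 4, 5, 1, 2, 4, 5, 1, 2, 4, 5, 1, 2, 4, 5]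

/-- the facts along path 0 -/
def pc0 : ℕ := 0x100000000001c0000410000b40001b500037f000616000a21000faf0016a2001f2c002ae4002dfc0036d20036dd0036e90036f30036da0036f20036f10036f00036ef0022c10036ee0036ed0019ce0022fc002d50002d620036cb0036d90036e30036ec0036d60036eb002a5c0020860017cb0036ea000abf00067a0003b20020910000d200005000001e000008

theorem path_ok0 : (walkD F 6 16777216 14068 48 pc0 0 pw0).map (fun r => (r.2.1, r.2.2)) = some (0, []) := by
  decide +kernel

variable {G Q : Type*} [Group G] [MulAction G Q] (γ : ℕ → G) (q0 : Q)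

theorem run (hOK : WordsOK γ q0 words) : Inv F 6 γ q0 14068 4698 := by
  have h0 := inv_zero F 6 γ q0
  have h1 := checkSteps_soundD F 6 16777216 γ q0 words hOK steps0 0 1 742 h0 chk0
  rw [len0] at h1
  have h2 := checkSteps_soundD F 6 16777216 γ q0 words hOK steps1 2000 742 1531 h1 chk1
  rw [len1] at h2
  have h3 := checkSteps_soundD F 6 16777216 γ q0 words hOK steps2 4000 1531 2323 h2 chk2
  rw [len2] at h3
  have h4 := checkSteps_soundD F 6 16777216 γ q0 words hOK steps3 6000 2323 3114 h3 chk3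
  rw [len3] at h4
  have h5 := checkSteps_soundD F 6 16777216 γ q0 words hOK steps4 8000 3114 3818 h4 chk4
  rw [len4] at h5
  have h6 := checkSteps_soundD F 6 16777216 γ q0 words hOK steps5 10000 3818 4360 h5 chk5
  rw [len5] at h6
  have h7 := checkSteps_soundD F 6 16777216 γ q0 words hOK steps6 12000 4360 4689 h6 chk6
  rw [len6] at h7
  have h8 := checkSteps_soundD F 6 16777216 γ q0 words hOK steps7 14000 4689 4698 h7 chk7
  rw [len7] at h8
  exact h8

theorem fix0 (hOK : WordsOK γ q0 words) : act γ pw0 q0 = q0 := by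
  obtain ⟨-, c, hc0, hfacts⟩ := run γ q0 hOK
  have hval : ∀ f < 14068, Valid 6 γ c (F f) := fun f hf => (hfacts f hf).2.2
  have hp := path_ok0
  cases hw : walkD F 6 16777216 14068 48 pc0 0 pw0 with
  | none => rw [hw] at hp; exact absurd hp (by simp)
  | some r =>
    obtain ⟨code', cur', rem'⟩ := r
    rw [hw] at hp
    simp only [Option.map_some, Option.some.injEq, Prod.mk.injEq] at hp
    obtain ⟨rfl, rfl⟩ := hp
    obtain ⟨u, hu, hc⟩ := walk_soundD F 6 16777216 γ c 14068 hval 48 _ _ _ _ _ _ hw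
    rw [List.append_nil] at hu
    subst hu
    rw [hc0] at hc
    exact hc.symm

end Cfsg.Agent.Lib.H28.HeM.CertC
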